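import Cfsg.Agent.Known.ClassNumberOEven.Types
import Cfsg.Agent.Known.ClassNumberSpEven.Classes
import Cfsg.Agent.Known.OrthInvol.Basic
import Mathlib

/-! The class numbers of the orthogonal groups in even dimension and characteristic two. -/

set_option autoImplicit false
set_option linter.style.haveILetI false

open Polynomial Matrix Cfsg.Lib.Classical Cfsg.Lib.Classical.Refl
open scoped Classical

namespace Cfsg.Lib.ClassNumberOEven

universe u

variable {F : Type u} [Field F] [Fintype F] [CharP F 2]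

/-- The endomorphism of a symplectic matrix. -/
noncomputable def spEnd {n : ℕ} (A : symplecticGroup (Fin n) F) : Module.End F (Fin n ⊕ Fin n → F) :=
  Matrix.toLin' (A : Matrix (Fin n ⊕ Fin n) (Fin n ⊕ Fin n) F)

omit [Fintype F] [CharP F 2] in
theorem spEnd_apply {n : ℕ} (A : symplecticGroup (Fin n) F) (x : Fin n ⊕ Fin n → F) :
    spEnd A x = (A : Matrix (Fin n ⊕ Fin n) (Fin n ⊕ Fin n) F) *ᵥ x := rfl

omit [Fintype F] [CharP F 2] in
theorem spEnd_mul {n : ℕ} (A A' : symplecticGroup (Fin n) F) : spEnd (A * A') = spEnd A * spEnd A' := by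
  rw [spEnd, spEnd, spEnd, Submonoid.coe_mul, Matrix.toLin'_mul]; rfl

omit [Fintype F] [CharP F 2] in
theorem spEnd_one {n : ℕ} : spEnd (1 : symplecticGroup (Fin n) F) = 1 := by
  rw [spEnd, Submonoid.coe_one, Matrix.toLin'_one]; rfl

/-- A symplectic matrix as a linear equivalence. -/
noncomputable def spEquiv {n : ℕ} (A : symplecticGroup (Fin n) F) : (Fin n ⊕ Fin n → F) ≃ₗ[F] (Fin n ⊕ Fin n → F) :=
  LinearEquiv.ofLinearMap (spEnd A) (spEnd A⁻¹)
    (by show spEnd A * spEnd A⁻¹ = 1; rw [← spEnd_mul, mul_inv_cancel, spEnd_one])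
    (by show spEnd A⁻¹ * spEnd A = 1; rw [← spEnd_mul, inv_mul_cancel, spEnd_one])

omit [Fintype F] [CharP F 2] in
theorem spEquiv_apply {n : ℕ} (A : symplecticGroup (Fin n) F) (x : Fin n ⊕ Fin n → F) :
    spEquiv A x = spEnd A x := rfl

omit [Fintype F] [CharP F 2] in
theorem aeval_inv {n : ℕ} (A : symplecticGroup (Fin n) F) (g : F[X]) :
    aeval (spEnd A + spEnd A⁻¹) g = 0 ↔ aeval ((A : Matrix (Fin n ⊕ Fin n) (Fin n ⊕ Fin n) F) +
      ((A⁻¹ : symplecticGroup (Fin n) F) : Matrix (Fin n ⊕ Fin n) (Fin n ⊕ Fin n) F)) g = 0 := by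
  have h : Matrix.toLinAlgEquiv' ((A : Matrix (Fin n ⊕ Fin n) (Fin n ⊕ Fin n) F) +
      ((A⁻¹ : symplecticGroup (Fin n) F) : Matrix (Fin n ⊕ Fin n) (Fin n ⊕ Fin n) F)) = spEnd A + spEnd A⁻¹ := by
    rw [map_add]; rfl
  rw [← h, Polynomial.aeval_algHom_apply, EmbeddingLike.map_eq_zero_iff]

omit [Fintype F] [CharP F 2] in
theorem spEnd_inj {n : ℕ} {A A' : symplecticGroup (Fin n) F} (h : spEnd A = spEnd A') : A = A' :=
  Subtype.ext (Matrix.toLin'.injective h)

/-- Similar symplectic matrices have the same annihilators of `a + a⁻¹`. -/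
theorem aeval_similar {n : ℕ} (A A' : symplecticGroup (Fin n) F) (P : (Fin n ⊕ Fin n → F) ≃ₗ[F] (Fin n ⊕ Fin n → F))
    (h : ∀ x, P (spEnd A x) = spEnd A' (P x)) (g : F[X]) :
    aeval (spEnd A + spEnd A⁻¹) g = 0 ↔ aeval (spEnd A' + spEnd A'⁻¹) g = 0 := by
  have hc : ∀ (B B' : Module.End F (Fin n ⊕ Fin n → F)), (∀ x, P (B x) = B' (P x)) → P.conjAlgEquiv F B = B' :=
    fun B B' hB => LinearMap.ext fun x => by
      show P (B (P.symm x)) = B' x
      rw [hB, P.apply_symm_apply]
  have h' : ∀ x, P (spEnd A⁻¹ x) = spEnd A'⁻¹ (P x) := fun x => by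
    refine (spEquiv A').injective ?_
    rw [spEquiv_apply, spEquiv_apply, ← h, ← Module.End.mul_apply, ← spEnd_mul, mul_inv_cancel, spEnd_one,
      ← Module.End.mul_apply (spEnd A'), ← spEnd_mul, mul_inv_cancel, spEnd_one]
    rfl
  rw [← hc _ _ h, ← hc _ _ h', ← map_add, Polynomial.aeval_algHom_apply,
    map_eq_zero_iff _ (P.conjAlgEquiv F).injective]

variable {ι : Type} [Fintype ι] [DecidableEq ι]

/-- An isometry from a linear equivalence preserving the form. -/
noncomputable def ofEquiv (Q : QuadraticForm F (ι → F)) (L : (ι → F) ≃ₗ[F] (ι → F)) (h : ∀ x, Q (L x) = Q x) :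
    Cfsg.isometryGroup F (⇑Q) :=
  ⟨⟨LinearMap.toMatrix' L.toLinearMap, LinearMap.toMatrix' L.symm.toLinearMap,
      by rw [← LinearMap.toMatrix'_comp, L.comp_symm]; exact LinearMap.toMatrix'_id,
      by rw [← LinearMap.toMatrix'_comp, L.symm_comp]; exact LinearMap.toMatrix'_id⟩,
    (Refl.mem_iff Q).2 fun x => by
      show Q (LinearMap.toMatrix' L.toLinearMap *ᵥ x) = Q x
      rw [LinearMap.toMatrix'_mulVec]
      exact h x⟩

/-- The endomorphism of an isometry. -/
noncomputable def oEnd {Q : QuadraticForm F (ι → F)} (g : Cfsg.isometryGroup F (⇑Q)) : Module.End F (ι → F) :=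
  Matrix.toLin' ((g : Matrix.GeneralLinearGroup ι F) : Matrix ι ι F)

theorem class_bounds (Q : QuadraticForm F (ι → F)) (hQ : (QuadraticMap.polarBilin Q).Nondegenerate) (m : ℕ)
    (hι : Fintype.card ι = 2 * (m + 2)) {ε : ℤ} (hε : ε = 1 ∨ ε = -1)
    (hG : gauss Q = (Fintype.card F : ℤ) ^ (m + 2) * ε) :
    Fintype.card F ^ (m + 2) ≤ 2 * Nat.card (ConjClasses (Cfsg.isometryGroup F (⇑Q))) ∧
      Nat.card (ConjClasses (Cfsg.isometryGroup F (⇑Q))) ≤ 15 * Fintype.card F ^ (m + 2) := by
  set n := m + 2 with hn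
  obtain ⟨e, he⟩ := exists_isometry_sympBilin (OrthInvol.polar_alt Q) hQ (m := n)
    (by rw [Module.finrank_pi, hι])
  let Q0 : QuadraticForm F (Fin n ⊕ Fin n → F) := Q.comp e.symm.toLinearMap
  have hQ0 : ∀ x, Q0 x = Q (e.symm x) := fun x => rfl
  have hpol : QuadraticMap.polarBilin Q0 = sympBilin n F := LinearMap.ext fun x => LinearMap.ext fun y => by
    conv_rhs => rw [← e.apply_symm_apply x, ← e.apply_symm_apply y, he]
    simp [QuadraticMap.polar, hQ0]
  have hnd : (QuadraticMap.polarBilin Q0).Nondegenerate := by rw [hpol]; exact sympBilin_nondegenerate n F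
  have hG0 : gauss Q0 = (Fintype.card F : ℤ) ^ n * ε := by
    rw [gauss_equiv Q0 e.symm.toEquiv Q fun x => hQ0 x]; exact hG
  -- the map into the symplectic group
  have hmem : ∀ g : Cfsg.isometryGroup F (⇑Q), LinearMap.toMatrix' (e.conj (oEnd g)) ∈ symplecticGroup (Fin n) F := by
    intro g
    rw [mem_symplectic_iff_form]
    intro x y
    rw [LinearMap.toMatrix'_mulVec, LinearMap.toMatrix'_mulVec, LinearEquiv.conj_apply_apply,
      LinearEquiv.conj_apply_apply, he]
    conv_rhs => rw [← e.apply_symm_apply x, ← e.apply_symm_apply y, he]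
    simp only [oEnd, Matrix.toLin'_apply, QuadraticMap.polarBilin_apply_apply, QuadraticMap.polar, ← Matrix.mulVec_add,
      (Refl.mem_iff Q).1 g.2]
  let Φ : Cfsg.isometryGroup F (⇑Q) → symplecticGroup (Fin n) F := fun g => ⟨_, hmem g⟩
  have hΦ : ∀ g x, spEnd (Φ g) x = e (oEnd g (e.symm x)) := fun g x => by
    rw [spEnd, Matrix.toLin'_toMatrix', LinearEquiv.conj_apply_apply]
  have hΦQ : ∀ g x, Q0 (spEnd (Φ g) x) = Q0 x := fun g x => by
    rw [hΦ, hQ0, hQ0, e.symm_apply_apply]
    exact (Refl.mem_iff Q).1 g.2 _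
  -- moving a form along a symplectic conjugation
  have hmove : ∀ (c A A' : symplecticGroup (Fin n) F), c * A * c⁻¹ = A' → ∀ x,
      spEquiv c (spEnd A x) = spEnd A' (spEquiv c x) := by
    intro c A A' hc x
    rw [spEquiv_apply, spEquiv_apply, ← Module.End.mul_apply, ← Module.End.mul_apply, ← spEnd_mul, ← spEnd_mul, ← hc,
      inv_mul_cancel_right]
  have hpull : ∀ (c : symplecticGroup (Fin n) F) (R : QuadraticForm F (Fin n ⊕ Fin n → F)),
      QuadraticMap.polarBilin R = sympBilin n F →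
      QuadraticMap.polarBilin (R.comp (spEquiv c).toLinearMap) = sympBilin n F ∧
        gauss (R.comp (spEquiv c).toLinearMap) = gauss R := by
    intro c R hR
    refine ⟨LinearMap.ext fun x => LinearMap.ext fun y => ?_, gauss_equiv _ (spEquiv c).toEquiv R fun v => rfl⟩
    rw [← (mem_symplectic_iff_form _).1 c.2 x y, ← hR]
    simp [QuadraticMap.polar, spEquiv_apply, spEnd_apply, Matrix.mulVec_add]
  -- classes map injectively
  have hinj : Function.Injective fun C : ConjClasses (Cfsg.isometryGroup F (⇑Q)) => ConjClasses.mk (Φ (Quotient.out C)) := by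
    intro C C' h
    obtain ⟨c, hc⟩ := isConj_iff.1 (ConjClasses.mk_eq_mk_iff_isConj.1 h)
    set g := Quotient.out C
    set g' := Quotient.out C'
    obtain ⟨hp1, hG1⟩ := hpull c Q0 hpol
    obtain ⟨k, hka, hkQ⟩ := exists_centralizing Q0 (Q0.comp (spEquiv c).toLinearMap) hnd (hp1.trans hpol.symm)
      (spEnd (Φ g)) (hΦQ g) (fun x => by
        show Q0 (spEquiv c (spEnd (Φ g) x)) = Q0 (spEquiv c x)
        rw [hmove c _ _ hc, hΦQ]) hG1
    let L : (ι → F) ≃ₗ[F] (ι → F) := e.trans (k.symm.trans ((spEquiv c).trans e.symm))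
    have hL : ∀ x, Q (L x) = Q x := fun x => by
      show Q (e.symm (spEquiv c (k.symm (e x)))) = Q x
      rw [← hQ0]
      have := hkQ (k.symm (e x))
      rw [k.apply_symm_apply] at this
      show (Q0.comp (spEquiv c).toLinearMap) (k.symm (e x)) = Q x
      rw [← this, hQ0, e.symm_apply_apply]
    rw [← Quotient.out_eq C, ← Quotient.out_eq C']
    refine Quotient.sound (isConj_iff.2 ⟨ofEquiv Q L hL, mul_inv_eq_iff_eq_mul.2 (Subtype.ext (Units.ext ?_))⟩)
    show LinearMap.toMatrix' L.toLinearMap * ((g : Matrix.GeneralLinearGroup ι F) : Matrix ι ι F) =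
      ((g' : Matrix.GeneralLinearGroup ι F) : Matrix ι ι F) * LinearMap.toMatrix' L.toLinearMap
    refine Matrix.toLin'.injective (LinearMap.ext fun x => ?_)
    rw [Matrix.toLin'_mul, Matrix.toLin'_mul, Matrix.toLin'_toMatrix', LinearMap.comp_apply, LinearMap.comp_apply]
    show e.symm (spEquiv c (k.symm (e (oEnd g x)))) = oEnd g' (e.symm (spEquiv c (k.symm (e x))))
    have h1 : k.symm (spEnd (Φ g) (e x)) = spEnd (Φ g) (k.symm (e x)) :=
      k.injective (by rw [k.apply_symm_apply, hka, k.apply_symm_apply])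
    rw [show e (oEnd g x) = spEnd (Φ g) (e x) by rw [hΦ, e.symm_apply_apply], h1, hmove c _ _ hc, hΦ,
      e.symm_apply_apply]
  -- the models
  have hmod : ∀ (ε' : ℤ), (ε' = 1 ∨ ε' = -1) → ∀ a : Fin (m + 2) → F, Good ε' a →
      ∃ A : symplecticGroup (Fin n) F, ∃ R : QuadraticForm F (Fin n ⊕ Fin n → F),
        QuadraticMap.polarBilin R = sympBilin n F ∧ (∀ x, R (spEnd A x) = R x) ∧
        gauss R = (Fintype.card F : ℤ) ^ n * ε' ∧
        (∀ g : F[X], aeval (spEnd A + spEnd A⁻¹) g = 0 ↔ mkPoly a ∣ g) ∧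
        (a 0 ≠ 0 → ∀ x, spEnd A x = x → x = 0) := by
    intro ε' hε' a ha
    obtain ⟨hm, hd⟩ := mkPoly_props a
    have h1 : 1 ≤ (mkPoly a).natDegree := by omega
    have c0 : (mkPoly a).coeff 0 = a 0 := mkPoly_coeff a 0
    have c1 : (mkPoly a).coeff 1 = a 1 := mkPoly_coeff a 1
    obtain ⟨v, hv, hsgn, hunit⟩ : ∃ v, (∀ y, topF hm (AdjoinRoot.root (mkPoly a) * y * v) =
        topF hm (y * AdjoinRoot.mk (mkPoly a) (rootDer (mkPoly a)))) ∧
        sgn2 (topF hm (v * v)) = ε' ∧ (a 0 ≠ 0 → IsUnit (AdjoinRoot.root (mkPoly a))) := by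
      rcases ha with ⟨h0, hs⟩ | ⟨h0, hs⟩
      · obtain ⟨v, hv, hvv, hu⟩ := exists_v_unit hm h1 (by rw [c0]; exact h0)
        exact ⟨v, hv, by rw [hvv, c0, c1, hs], fun _ => hu⟩
      · obtain ⟨v, hv, hvv⟩ := exists_v_zero hm h1 (by rw [c0]; exact h0) (by rw [c1]; exact hs) hε'
        exact ⟨v, hv, hvv, fun h => absurd h0 h⟩
    obtain ⟨A, R, hR, hAR, hGR, hann, hfix⟩ := exists_model hm h1 hd v hv
    exact ⟨A, R, hR, fun x => hAR x, by rw [hGR, hsgn], fun g => (aeval_inv A g).trans (hann g),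
      fun h0 x hx => hfix (hunit h0) x hx⟩
  have hpoly : ∀ (a b : Fin (m + 2) → F), (∀ g : F[X], mkPoly a ∣ g ↔ mkPoly b ∣ g) → a = b := by
    intro a b h
    have e1 := eq_of_monic_of_associated (mkPoly_props a).1 (mkPoly_props b).1
      (associated_of_dvd_dvd ((h _).2 dvd_rfl) ((h _).1 dvd_rfl))
    exact funext fun i => by rw [← mkPoly_coeff a i, e1, mkPoly_coeff]
  constructor
  · choose A R hR hAR hGR hann hfix using fun a : {a : Fin (m + 2) → F // Good ε a} => hmod ε hε a.1 a.2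
    have hequiv : ∀ a, ∃ P : (Fin n ⊕ Fin n → F) ≃ₗ[F] (ι → F), ∀ x, Q (P x) = R a x := fun a =>
      exists_equiv_of_gauss (R a) Q (by rw [hR]; exact sympBilin_nondegenerate n F) hQ (n := n)
        (by rw [Module.finrank_pi, Fintype.card_sum, Fintype.card_fin]; ring)
        (by rw [Module.finrank_pi, hι]) (by rw [hGR, hG])
    choose P hP using hequiv
    let L : {a : Fin (m + 2) → F // Good ε a} → ((ι → F) ≃ₗ[F] (ι → F)) := fun a =>
      (P a).symm.trans ((spEquiv (A a)).trans (P a))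
    have hL : ∀ a x, Q (L a x) = Q x := fun a x => by
      show Q (P a (spEquiv (A a) ((P a).symm x))) = Q x
      rw [hP, spEquiv_apply, hAR, ← hP, (P a).apply_symm_apply]
    refine (card_good hε).trans (Nat.mul_le_mul_left 2 (Nat.card_le_card_of_injective
      (fun a => ConjClasses.mk (ofEquiv Q (L a) (hL a))) fun a b h => Subtype.ext (hpoly _ _ fun g => ?_)))
    obtain ⟨c, hc⟩ := isConj_iff.1 (ConjClasses.mk_eq_mk_iff_isConj.1 h)
    rw [← hann, ← hann]
    have hc' : ∀ x, oEnd c (L a x) = L b (oEnd c x) := fun x => by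
      have h1 := congrArg oEnd (mul_inv_eq_iff_eq_mul.1 hc)
      have h2 := LinearMap.congr_fun h1 x
      simp only [oEnd, ofEquiv, Subgroup.coe_mul, Units.val_mul, Matrix.toLin'_mul, LinearMap.comp_apply,
        Matrix.toLin'_toMatrix'] at h2
      exact h2
    have hcb : Function.Bijective (oEnd c) :=
      (Finite.injective_iff_bijective).1 fun x y hxy => by
        have h1 := congrArg (oEnd c⁻¹) hxy
        simp only [oEnd, ← LinearMap.comp_apply, ← Matrix.toLin'_mul, ← Units.val_mul, ← Subgroup.coe_mul,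
          inv_mul_cancel, Subgroup.coe_one, Units.val_one, Matrix.toLin'_one, LinearMap.id_apply] at h1
        exact h1
    refine aeval_similar _ _ ((P a).trans ((LinearEquiv.ofBijective (oEnd c) hcb).trans (P b).symm)) (fun x => ?_) g
    show (P b).symm (oEnd c (P a (spEnd (A a) x))) = spEnd (A b) ((P b).symm (oEnd c (P a x)))
    rw [show P a (spEnd (A a) x) = L a (P a x) by
      show _ = P a (spEquiv (A a) ((P a).symm (P a x))); rw [(P a).symm_apply_apply, spEquiv_apply], hc']
    show (P b).symm (P b (spEquiv (A b) ((P b).symm _))) = _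
    rw [(P b).symm_apply_apply, spEquiv_apply]
  · have hbad : ∀ a : {a : Fin (m + 2) → F // Bad ε a}, Good (-ε) a.1 := fun a => Or.inl a.2
    choose A R hR hAR hGR hann hfix using fun a : {a : Fin (m + 2) → F // Bad ε a} => hmod (-ε) (by omega) a.1 (hbad a)
    have hsum : Function.Injective (Sum.elim
        (fun C : ConjClasses (Cfsg.isometryGroup F (⇑Q)) => ConjClasses.mk (Φ (Quotient.out C)))
        (fun a => ConjClasses.mk (A a))) := by
      refine hinj.sumElim (fun a b h => Subtype.ext (hpoly _ _ fun g => ?_)) fun C a h => ?_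
      · obtain ⟨c, hc⟩ := isConj_iff.1 (ConjClasses.mk_eq_mk_iff_isConj.1 h)
        rw [← hann, ← hann]
        exact aeval_similar _ _ (spEquiv c) (hmove c _ _ hc) g
      · obtain ⟨c, hc⟩ := isConj_iff.1 (ConjClasses.mk_eq_mk_iff_isConj.1 h.symm)
        obtain ⟨hp1, hG1⟩ := hpull c Q0 hpol
        set Q1 := Q0.comp (spEquiv c).toLinearMap
        have hinv : ∀ x, Q1 (spEnd (A a) x) = Q1 x := fun x => by
          show Q0 (spEquiv c (spEnd (A a) x)) = Q0 (spEquiv c x)
          rw [hmove c _ _ hc, hΦQ]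
        have hnR : (QuadraticMap.polarBilin (R a)).Nondegenerate := by rw [hR]; exact sympBilin_nondegenerate n F
        obtain ⟨z, hz⟩ := exists_diff (R a) Q1 hnR (hp1.trans (hR a).symm)
        set β : LinearMap.BilinForm F (Fin n ⊕ Fin n → F) := QuadraticMap.polarBilin (R a) with hβ
        have hzfix : spEnd (A a) z = z := by
          refine sub_eq_zero.1 (hnR.2 _ fun y => ?_)
          obtain ⟨x, rfl⟩ := (spEquiv (A a)).surjective y
          show β (spEnd (A a) x) (spEnd (A a) z - z) = 0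
          have h1 := hz (spEnd (A a) x)
          rw [hinv, hAR, hz x] at h1
          rw [map_sub, ← SympInvol.sq_inj (add_left_cancel h1), sub_eq_zero]
          simp only [hβ, QuadraticMap.polarBilin_apply_apply, QuadraticMap.polar, ← map_add (spEnd (A a)), hAR]
        have hz0 : z = 0 := hfix a a.2.1 z hzfix
        have h2 : gauss Q1 = gauss (R a) := by
          rw [gauss_shift (R a) Q1 z hz, hz0, QuadraticMap.map_zero, sgn2_zero, one_mul]
        rw [hG1, hG0, hGR, mul_right_inj' (pow_ne_zero _ (by exact_mod_cast Fintype.card_ne_zero))] at h2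
        omega
    haveI : Finite (ConjClasses (symplecticGroup (Fin n) F)) := inferInstance
    have h1 := Nat.card_le_card_of_injective _ hsum
    rw [Nat.card_sum] at h1
    have h2 := ClassNumberSpEven.card_classes_le (F := F) n
    have h3 := card_bad (F := F) (m := m) hε
    have e2 : Fintype.card F ^ n = Fintype.card F ^ (m + 2) := rfl
    omega

end Cfsg.Lib.ClassNumberOEven
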