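import Cfsg.Agent.Known.ClassNumberOEven.Sign
import Cfsg.Agent.Classical.Symp.Standard
import Mathlib

/-! Model isometries in characteristic two from a polynomial in `a + a⁻¹`, with the sign of their form. -/

set_option autoImplicit false
set_option linter.style.haveILetI false

open Polynomial Matrix Cfsg.Lib.Classical
open scoped Classical

namespace Cfsg.Lib.ClassNumberOEven

universe u

variable {F : Type u} [Field F] {f : F[X]} (hf : f.Monic)

/-- The top coefficient of a residue. -/
noncomputable def topF : AdjoinRoot f →ₗ[F] F :=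
  (Polynomial.lcoeff F (f.natDegree - 1)).comp (AdjoinRoot.modByMonicHom hf)

theorem topF_mk (p : F[X]) : topF hf (AdjoinRoot.mk f p) = (p %ₘ f).coeff (f.natDegree - 1) := by
  rw [topF, LinearMap.comp_apply, AdjoinRoot.modByMonicHom_mk, Polynomial.lcoeff_apply]

theorem topF_mk_low (hn : 1 ≤ f.natDegree) {p : F[X]} (hp : p.natDegree < f.natDegree) :
    topF hf (AdjoinRoot.mk f p) = p.coeff (f.natDegree - 1) := by
  rw [topF_mk, (Polynomial.modByMonic_eq_self_iff hf).2 ?_]
  by_cases h0 : p = 0
  · subst h0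
    rw [degree_zero]
    exact bot_lt_iff_ne_bot.2 (degree_ne_bot.2 hf.ne_zero)
  · exact natDegree_lt_natDegree_iff h0 |>.1 hp

theorem topF_nondeg (hn : 1 ≤ f.natDegree) {x : AdjoinRoot f} (h : ∀ y, topF hf (x * y) = 0) : x = 0 := by
  obtain ⟨p, rfl⟩ := AdjoinRoot.mk_surjective x
  by_contra hne
  have e : AdjoinRoot.mk f (p %ₘ f) = AdjoinRoot.mk f p := by
    have h1 : p %ₘ f = p - f * (p /ₘ f) := Polynomial.modByMonic_eq_sub_mul_div p f
    rw [h1, map_sub, map_mul, AdjoinRoot.mk_self, zero_mul, sub_zero]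
  rw [← e] at hne h
  set r := p %ₘ f with hr
  have hr0 : r ≠ 0 := fun h0 => hne (by rw [h0, map_zero])
  have hrd : r.natDegree < f.natDegree := natDegree_modByMonic_lt p hf (fun h1 => by rw [h1, natDegree_one] at hn; omega)
  have h2 := h (AdjoinRoot.mk f (X ^ (f.natDegree - 1 - r.natDegree)))
  rw [← map_mul, topF_mk_low hf hn (by
    rw [natDegree_mul_X_pow _ hr0]; omega), coeff_mul_X_pow', if_pos (by omega),
    show f.natDegree - 1 - (f.natDegree - 1 - r.natDegree) = r.natDegree by omega] at h2
  exact leadingCoeff_ne_zero.2 hr0 h2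

/-- The values on the powers of the root. -/
noncomputable def seqF (m : ℕ) : F := topF hf (AdjoinRoot.root f ^ m)

theorem seqF_low (hn : 1 ≤ f.natDegree) {m : ℕ} (hm : m < f.natDegree) :
    seqF hf m = if m + 1 = f.natDegree then 1 else 0 := by
  rw [seqF, ← AdjoinRoot.mk_X, ← map_pow, topF_mk_low hf hn (by rw [natDegree_X_pow]; exact hm), coeff_X_pow]
  exact if_congr ⟨fun h => by omega, fun h => by omega⟩ rfl rfl

theorem seqF_rec (m : ℕ) : ∑ k ∈ Finset.range (f.natDegree + 1), f.coeff k * seqF hf (m + k) = 0 := by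
  have h : AdjoinRoot.root f ^ m * aeval (AdjoinRoot.root f) f = 0 := by
    rw [AdjoinRoot.aeval_eq, AdjoinRoot.mk_self, mul_zero]
  rw [aeval_eq_sum_range, Finset.mul_sum] at h
  have h2 := congrArg (topF hf) h
  rw [map_sum, map_zero] at h2
  refine Eq.trans (Finset.sum_congr rfl fun k _ => ?_) h2
  rw [mul_smul_comm, map_smul, smul_eq_mul, ← pow_add]; rfl

variable [CharP F 2]

theorem coeff_mul_self (A : PowerSeries F) (m : ℕ) :
    PowerSeries.coeff (2 * m) (A * A) = PowerSeries.coeff m A * PowerSeries.coeff m A ∧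
      PowerSeries.coeff (2 * m + 1) (A * A) = 0 := by
  constructor
  · rw [PowerSeries.coeff_mul, ← Finset.add_sum_erase _ _ (show (m, m) ∈ Finset.HasAntidiagonal.antidiagonal (2 * m) by
      simp only [Finset.HasAntidiagonal.mem_antidiagonal]; omega)]
    rw [Finset.sum_involution (fun p _ => (p.2, p.1)) (fun p _ => by rw [mul_comm]; exact CharTwo.add_self_eq_zero _)
      (fun p hp _ he => ?_) (fun p hp => ?_) (fun p _ => rfl), add_zero]
    · simp only [Finset.mem_erase, Finset.HasAntidiagonal.mem_antidiagonal] at hp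
      obtain ⟨p1, p2⟩ := p
      simp only [Prod.mk.injEq] at he
      exact hp.1 (Prod.ext (by simp only; omega) (by simp only; omega))
    · simp only [Finset.mem_erase, Finset.HasAntidiagonal.mem_antidiagonal, ne_eq, Prod.ext_iff] at hp ⊢
      exact ⟨fun h => hp.1 ⟨h.2, h.1⟩, by omega⟩
  · rw [PowerSeries.coeff_mul]
    refine Finset.sum_involution (fun p _ => (p.2, p.1)) (fun p _ => by rw [mul_comm]; exact CharTwo.add_self_eq_zero _)
      (fun p hp _ he => ?_) (fun p hp => ?_) (fun p _ => rfl)
    · simp only [Finset.HasAntidiagonal.mem_antidiagonal] at hp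
      have := congrArg Prod.fst he
      simp only at this
      omega
    · simp only [Finset.HasAntidiagonal.mem_antidiagonal] at hp ⊢
      omega

/-- The odd values are squares. -/
theorem seqF_odd (hn : 1 ≤ f.natDegree) (i : ℕ) :
    seqF hf (2 * i + 1) = ∑ j ∈ Finset.range (f.natDegree + 1), f.coeff (2 * j) * (seqF hf (i + j) * seqF hf (i + j)) := by
  set n := f.natDegree with hndef
  let A : PowerSeries F := PowerSeries.mk (seqF hf)
  let R : PowerSeries F := ∑ k ∈ Finset.range (n + 1), PowerSeries.C (f.coeff k) * PowerSeries.X ^ (n - k)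
  have hcoef : ∀ (S : PowerSeries F) (m : ℕ), PowerSeries.coeff m (R * S) =
      ∑ k ∈ Finset.range (n + 1), if n - k ≤ m then f.coeff k * PowerSeries.coeff (m - (n - k)) S else 0 := by
    intro S m
    rw [Finset.sum_mul, map_sum]
    refine Finset.sum_congr rfl fun k _ => ?_
    rw [mul_assoc, PowerSeries.coeff_C_mul, PowerSeries.coeff_X_pow_mul', mul_ite, mul_zero]
  have hRA : R * A = PowerSeries.X ^ (n - 1) := by
    ext m
    rw [hcoef, PowerSeries.coeff_X_pow]
    simp only [A, PowerSeries.coeff_mk]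
    rcases Nat.lt_or_ge m n with hm | hm
    · rw [Finset.sum_eq_single n]
      · rw [Nat.sub_self, if_pos (Nat.zero_le _), hndef, hf.coeff_natDegree, one_mul, Nat.sub_zero,
          seqF_low hf hn (hndef ▸ hm), ← hndef]
        exact if_congr ⟨fun h => by omega, fun h => by omega⟩ rfl rfl
      · intro k hk hkn
        have := Finset.mem_range.1 hk
        split_ifs
        · rw [seqF_low hf hn (by omega), if_neg (by omega), mul_zero]
        · rfl
      · intro h; exact absurd (Finset.self_mem_range_succ n) h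
    · rw [if_neg (by omega)]
      refine Eq.trans (Finset.sum_congr rfl fun k hk => ?_) (seqF_rec hf (m - n))
      have := Finset.mem_range.1 hk
      rw [if_pos (by omega)]
      congr 2
      omega
  have key : PowerSeries.X ^ (n - 1) * A = R * (A * A) := by rw [← hRA]; ring
  have h1 := congrArg (PowerSeries.coeff (2 * i + n)) key
  rw [hcoef, PowerSeries.coeff_X_pow_mul', if_pos (by omega), show 2 * i + n - (n - 1) = 2 * i + 1 by omega] at h1
  simp only [A, PowerSeries.coeff_mk] at h1
  rw [h1]
  symm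
  refine Finset.sum_bij_ne_zero (fun j _ _ => 2 * j) ?_ ?_ ?_ ?_
  · intro j hj hne
    rw [Finset.mem_range]
    by_contra hlt
    exact hne (by rw [coeff_eq_zero_of_natDegree_lt (by omega), zero_mul])
  · intro j _ _ j' _ _ h; omega
  · intro k hk hne
    have hkn := Finset.mem_range.1 hk
    rw [if_pos (by omega)] at hne
    rcases Nat.even_or_odd' k with ⟨j, rfl | rfl⟩
    · refine ⟨j, Finset.mem_range.2 (by omega), ?_, rfl⟩
      rw [show 2 * i + n - (n - 2 * j) = 2 * (i + j) by omega, (coeff_mul_self _ _).1, PowerSeries.coeff_mk] at hne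
      exact hne
    · exfalso
      apply hne
      rw [show 2 * i + n - (n - (2 * j + 1)) = 2 * (i + j) + 1 by omega, (coeff_mul_self _ _).2, mul_zero]
  · intro j hj hne
    have : 2 * j ≤ n := by
      by_contra hlt
      exact hne (by rw [coeff_eq_zero_of_natDegree_lt (by omega), zero_mul])
    rw [if_pos (by omega), show 2 * i + n - (n - 2 * j) = 2 * (i + j) by omega, (coeff_mul_self _ _).1,
      PowerSeries.coeff_mk]

variable [Fintype F]

/-- A square root of the coefficient. -/
noncomputable def rootCoeff (f : F[X]) (j : ℕ) : F := Classical.choose (SympInvol.sqrt_exists (f.coeff (2 * j)))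

theorem rootCoeff_sq (f : F[X]) (j : ℕ) : rootCoeff f j * rootCoeff f j = f.coeff (2 * j) :=
  Classical.choose_spec (SympInvol.sqrt_exists (f.coeff (2 * j)))

/-- The polynomial whose square is the derivative of `X * f`. -/
noncomputable def rootDer (f : F[X]) : F[X] :=
  ∑ j ∈ Finset.range (f.natDegree + 1), C (rootCoeff f j) * X ^ j

theorem rootDer_sq (f : F[X]) : rootDer f * rootDer f = derivative (X * f) := by
  rw [rootDer, CharTwo.sum_mul_self]
  ext k
  rw [finset_sum_coeff, coeff_derivative, coeff_X_mul]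
  have hterm : ∀ j, (C (rootCoeff f j) * X ^ j * (C (rootCoeff f j) * X ^ j) : F[X]).coeff k =
      if k = 2 * j then f.coeff (2 * j) else 0 := fun j => by
    rw [show C (rootCoeff f j) * X ^ j * (C (rootCoeff f j) * X ^ j) =
      C (rootCoeff f j * rootCoeff f j) * X ^ (2 * j) by rw [map_mul, two_mul, pow_add]; ring, rootCoeff_sq,
      coeff_C_mul_X_pow]
  simp only [hterm]
  rcases Nat.even_or_odd' k with ⟨i, rfl | rfl⟩
  · have h1 : (((2 * i : ℕ) : F) + 1) = 1 := by push_cast; rw [CharTwo.two_eq_zero, zero_mul, zero_add]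
    rw [h1, mul_one]
    by_cases hi : i ≤ f.natDegree
    · rw [Finset.sum_eq_single i (fun j _ hj => if_neg (by omega)) (fun h => absurd (Finset.mem_range.2 (by omega)) h),
        if_pos rfl]
    · rw [coeff_eq_zero_of_natDegree_lt (by omega)]
      refine Finset.sum_eq_zero fun j hj => ?_
      rw [if_neg]
      have := Finset.mem_range.1 hj
      omega
  · have h1 : (((2 * i + 1 : ℕ) : F) + 1) = 0 := by
      push_cast
      rw [CharTwo.two_eq_zero, zero_mul, zero_add, CharTwo.add_self_eq_zero]
    rw [h1, mul_zero]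
    exact Finset.sum_eq_zero fun j _ => if_neg (by omega)

/-- The square values of the top coefficient. -/
theorem topF_square (hn : 1 ≤ f.natDegree) (z : AdjoinRoot f) :
    topF hf (AdjoinRoot.root f * (z * z)) =
      topF hf (z * AdjoinRoot.mk f (rootDer f)) * topF hf (z * AdjoinRoot.mk f (rootDer f)) := by
  obtain ⟨p, rfl⟩ := AdjoinRoot.mk_surjective z
  induction p using Polynomial.induction_on' with
  | add p q hp hq =>
    simp only [map_add, add_mul, CharTwo.add_mul_self, mul_add] at hp hq ⊢
    rw [← hp, ← hq, mul_comm (AdjoinRoot.mk f q) (AdjoinRoot.mk f p)]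
    linear_combination (topF hf (AdjoinRoot.root f * (AdjoinRoot.mk f p * AdjoinRoot.mk f q)) -
      topF hf (AdjoinRoot.mk f p * AdjoinRoot.mk f (rootDer f)) * topF hf (AdjoinRoot.mk f q * AdjoinRoot.mk f (rootDer f))) *
      (CharTwo.two_eq_zero : (2 : F) = 0)
  | monomial i c =>
    have hm : AdjoinRoot.mk f (monomial i c) = c • AdjoinRoot.root f ^ i := by
      rw [← C_mul_X_pow_eq_monomial, map_mul, map_pow, AdjoinRoot.mk_X, AdjoinRoot.mk_C, Algebra.smul_def]; rfl
    have hw : topF hf (AdjoinRoot.root f ^ i * AdjoinRoot.mk f (rootDer f)) =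
        ∑ j ∈ Finset.range (f.natDegree + 1), rootCoeff f j * seqF hf (i + j) := by
      rw [rootDer, map_sum, Finset.mul_sum, map_sum]
      refine Finset.sum_congr rfl fun j _ => ?_
      rw [map_mul (AdjoinRoot.mk f), map_pow (AdjoinRoot.mk f), AdjoinRoot.mk_X, AdjoinRoot.mk_C, ← mul_assoc, mul_comm (AdjoinRoot.root f ^ i),
        mul_assoc, ← pow_add, ← AdjoinRoot.algebraMap_eq, ← Algebra.smul_def, map_smul, smul_eq_mul]; rfl
    rw [hm]
    simp only [smul_mul_assoc, mul_smul_comm, map_smul, smul_eq_mul, hw]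
    rw [← pow_add, ← pow_succ', show i + i + 1 = 2 * i + 1 by omega, ← seqF, seqF_odd hf hn,
      show ∀ S : F, c * S * (c * S) = c * c * (S * S) from fun S => by ring, CharTwo.sum_mul_self]
    rw [mul_assoc]
    congr 2
    refine Finset.sum_congr rfl fun j _ => ?_
    rw [← rootCoeff_sq]; ring

/-- The model. -/
theorem exists_model (hn : 1 ≤ f.natDegree) {n : ℕ} (hdeg : f.natDegree = n) (v : AdjoinRoot f)
    (hv : ∀ y, topF hf (AdjoinRoot.root f * y * v) = topF hf (y * AdjoinRoot.mk f (rootDer f))) :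
    ∃ A : symplecticGroup (Fin n) F, ∃ R : QuadraticForm F (Fin n ⊕ Fin n → F),
      QuadraticMap.polarBilin R = sympBilin n F ∧
      (∀ x, R ((A : Matrix (Fin n ⊕ Fin n) (Fin n ⊕ Fin n) F) *ᵥ x) = R x) ∧
      gauss R = (Fintype.card F : ℤ) ^ n * sgn2 (topF hf (v * v)) ∧
      (∀ g : F[X], aeval ((A : Matrix (Fin n ⊕ Fin n) (Fin n ⊕ Fin n) F) +
        ((A⁻¹ : symplecticGroup (Fin n) F) : Matrix (Fin n ⊕ Fin n) (Fin n ⊕ Fin n) F)) g = 0 ↔ f ∣ g) ∧
      (IsUnit (AdjoinRoot.root f) →
        ∀ x, (A : Matrix (Fin n ⊕ Fin n) (Fin n ⊕ Fin n) F) *ᵥ x = x → x = 0) := by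
  haveI : Module.Finite F (AdjoinRoot f) := hf.finite_adjoinRoot
  haveI : Finite (AdjoinRoot f) := Module.finite_of_finite F
  haveI : Fintype (AdjoinRoot f) := Fintype.ofFinite _
  set t := AdjoinRoot.root f with ht
  set φ := topF hf with hφ
  let π1 : AdjoinRoot f × AdjoinRoot f →ₗ[F] AdjoinRoot f := LinearMap.fst F _ _
  let π2 : AdjoinRoot f × AdjoinRoot f →ₗ[F] AdjoinRoot f := LinearMap.snd F _ _
  let b0 : LinearMap.BilinForm F (AdjoinRoot f × AdjoinRoot f) :=
    ((LinearMap.mul F (AdjoinRoot f)).compr₂ φ).compl₁₂ π1 π2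
  let l1 : AdjoinRoot f × AdjoinRoot f →ₗ[F] F := (φ.comp (LinearMap.mulRight F v)).comp π1
  let l2 : AdjoinRoot f × AdjoinRoot f →ₗ[F] F := (φ.comp (LinearMap.mulRight F v)).comp π2
  let Q : QuadraticForm F (AdjoinRoot f × AdjoinRoot f) :=
    LinearMap.BilinMap.toQuadraticMap b0 + QuadraticMap.linMulLin l1 l1 + QuadraticMap.linMulLin l2 l2
  have hQ : ∀ p, Q p = φ (p.1 * p.2) + φ (p.1 * v) * φ (p.1 * v) + φ (p.2 * v) * φ (p.2 * v) := fun p => rfl
  have hpol : ∀ p r, QuadraticMap.polarBilin Q p r = φ (p.1 * r.2) + φ (r.1 * p.2) := fun p r => by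
    rw [QuadraticMap.polarBilin_apply_apply, QuadraticMap.polar, hQ, hQ, hQ]
    simp only [Prod.fst_add, Prod.snd_add, add_mul, mul_add, map_add]
    linear_combination (φ (p.1 * v) * φ (r.1 * v) + φ (p.2 * v) * φ (r.2 * v)) * (CharTwo.two_eq_zero : (2 : F) = 0)
  have hnd : (QuadraticMap.polarBilin Q).Nondegenerate := by
    have h1 : ∀ p, (∀ r, QuadraticMap.polarBilin Q p r = 0) → p = 0 := fun p hp => by
      refine Prod.ext (topF_nondeg hf hn fun y => ?_) (topF_nondeg hf hn fun y => ?_)
      · have := hp (0, y)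
        rw [hpol] at this
        simpa [hφ] using this
      · have := hp (y, 0)
        rw [hpol] at this
        simpa [hφ, mul_comm] using this
    exact ⟨h1, fun p hp => h1 p fun r => by
      rw [QuadraticMap.polarBilin_apply_apply, QuadraticMap.polar_comm, ← QuadraticMap.polarBilin_apply_apply]
      exact hp r⟩
  have halt : LinearMap.BilinForm.IsAlt (QuadraticMap.polarBilin Q) := fun p => by
    show QuadraticMap.polar (⇑Q) p p = 0
    rw [QuadraticMap.polar_self, two_nsmul, CharTwo.add_self_eq_zero]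
  have hdim : Module.finrank F (AdjoinRoot f × AdjoinRoot f) = 2 * n := by
    rw [Module.finrank_prod, (PowerBasis.finrank (AdjoinRoot.powerBasis' hf)), AdjoinRoot.powerBasis'_dim, hdeg]; ring
  obtain ⟨e, he⟩ := exists_isometry_sympBilin halt hnd hdim
  let am : Module.End F (AdjoinRoot f × AdjoinRoot f) := π2.prod (π1 + (LinearMap.mulLeft F t).comp π2)
  let am' : Module.End F (AdjoinRoot f × AdjoinRoot f) := ((LinearMap.mulLeft F t).comp π1 + π2).prod π1
  have ham : ∀ p, am p = (p.2, p.1 + t * p.2) := fun p => rfl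
  have ham' : ∀ p, am' p = (t * p.1 + p.2, p.1) := fun p => rfl
  have hone : ∀ x : AdjoinRoot f, x + x = 0 := fun x => ClassNumberSpEven.vadd_self F x
  have haa : ∀ p, am (am' p) = p := fun p => by
    rw [ham', ham, add_comm (t * p.1) p.2, add_assoc, hone, add_zero]
  have hinv : ∀ p, Q (am p) = Q p := fun p => by
    rw [hQ, hQ, ham]
    have h1 : φ (t * p.2 * v) = φ (p.2 * AdjoinRoot.mk f (rootDer f)) := hv p.2
    have h2 : φ (t * (p.2 * p.2)) = φ (p.2 * AdjoinRoot.mk f (rootDer f)) * φ (p.2 * AdjoinRoot.mk f (rootDer f)) :=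
      topF_square hf hn p.2
    simp only [mul_add, add_mul, map_add, CharTwo.add_mul_self, h1]
    rw [show p.2 * (t * p.2) = t * (p.2 * p.2) by ring, h2, mul_comm p.2 p.1]
    linear_combination (φ (p.2 * AdjoinRoot.mk f (rootDer f)) * φ (p.2 * AdjoinRoot.mk f (rootDer f)) +
      φ (p.2 * AdjoinRoot.mk f (rootDer f)) * φ (p.1 * v)) * (CharTwo.two_eq_zero : (2 : F) = 0)
  have hinv' : ∀ p, Q (am' p) = Q p := fun p => by rw [← hinv (am' p), haa]
  let R : QuadraticForm F (Fin n ⊕ Fin n → F) := Q.comp e.symm.toLinearMap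
  have hR : ∀ x, R x = Q (e.symm x) := fun x => rfl
  have hRB : QuadraticMap.polarBilin R = sympBilin n F := LinearMap.ext fun x => LinearMap.ext fun y => by
    conv_rhs => rw [← e.apply_symm_apply x, ← e.apply_symm_apply y, he]
    simp [QuadraticMap.polar, hR]
  have hmem : ∀ g : Module.End F (AdjoinRoot f × AdjoinRoot f), (∀ p, Q (g p) = Q p) →
      LinearMap.toMatrix' (e.conj g) ∈ symplecticGroup (Fin n) F := fun g hg => by
    rw [mem_symplectic_iff_form]
    intro x y
    rw [LinearMap.toMatrix'_mulVec, LinearMap.toMatrix'_mulVec, LinearEquiv.conj_apply_apply,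
      LinearEquiv.conj_apply_apply, he]
    conv_rhs => rw [← e.apply_symm_apply x, ← e.apply_symm_apply y, he]
    simp only [QuadraticMap.polarBilin_apply_apply, QuadraticMap.polar, ← map_add g, hg]
  set A : symplecticGroup (Fin n) F := ⟨_, hmem am hinv⟩ with hA
  have hAinv : ((A⁻¹ : symplecticGroup (Fin n) F) : Matrix (Fin n ⊕ Fin n) (Fin n ⊕ Fin n) F) =
      LinearMap.toMatrix' (e.conj am') := by
    have h1 : A * ⟨_, hmem am' hinv'⟩ = 1 := by
      refine Subtype.ext (Matrix.toLin'.injective ?_)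
      show Matrix.toLin' (LinearMap.toMatrix' (e.conj am) * LinearMap.toMatrix' (e.conj am')) = Matrix.toLin' 1
      rw [Matrix.toLin'_mul, Matrix.toLin'_toMatrix', Matrix.toLin'_toMatrix', Matrix.toLin'_one]
      refine LinearMap.ext fun x => ?_
      simp [LinearEquiv.conj_apply_apply, haa]
    rw [inv_eq_of_mul_eq_one_right h1]
  refine ⟨A, R, hRB, fun x => ?_, ?_, fun g => ?_, fun hu x hx => ?_⟩
  · show R (LinearMap.toMatrix' (e.conj am) *ᵥ x) = R x
    rw [LinearMap.toMatrix'_mulVec, hR, hR, LinearEquiv.conj_apply_apply, e.symm_apply_apply, hinv]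
  · rw [gauss_equiv R e.symm.toEquiv Q fun x => hR x, Fintype.sum_prod_type, Finset.sum_comm]
    have hsum : ∀ y : AdjoinRoot f, ∑ x : AdjoinRoot f, sgn2 (Q (x, y)) =
        if y = v then (Fintype.card (AdjoinRoot f) : ℤ) * sgn2 (φ (v * v)) else 0 := by
      intro y
      simp only [hQ, sgn2_add, sgn2_sq, ← Finset.sum_mul]
      simp only [← sgn2_add, ← map_add, ← mul_add]
      split_ifs with hy
      · subst hy
        simp [hone, sgn2_zero]
      · have h0 : ∑ x : AdjoinRoot f, sgn2 (φ (x * (y + v))) = 0 :=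
          sum_linear_zero (l := φ.comp (LinearMap.mulRight F (y + v))) fun h => hy ?_
        · rw [h0, zero_mul]
        have := topF_nondeg hf hn (x := y + v) fun x => by
          rw [mul_comm]; exact LinearMap.congr_fun h x
        rw [← add_zero y, ← hone v, ← add_assoc, this, zero_add]
    simp only [hsum, Finset.sum_ite_eq', Finset.mem_univ, if_true]
    rw [show Fintype.card (AdjoinRoot f) = Fintype.card F ^ n by
      rw [Module.card_eq_pow_finrank (K := F), (PowerBasis.finrank (AdjoinRoot.powerBasis' hf)),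
        AdjoinRoot.powerBasis'_dim, hdeg]]
    push_cast
    rfl
  · rw [hAinv]
    let S : Module.End F (AdjoinRoot f × AdjoinRoot f) := am + am'
    have hS : ∀ p, S p = (t * p.1, t * p.2) := fun p => by
      show am p + am' p = _
      rw [ham, ham', Prod.mk_add_mk]
      refine Prod.ext ?_ ?_
      · show p.2 + (t * p.1 + p.2) = t * p.1
        rw [add_left_comm, hone, add_zero]
      · show p.1 + t * p.2 + p.1 = t * p.2
        rw [add_comm (p.1), add_assoc, hone, add_zero]
    have hSg : ∀ p, aeval S g p = (AdjoinRoot.mk f g * p.1, AdjoinRoot.mk f g * p.2) := by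
      induction g using Polynomial.induction_on' with
      | add r s hr hs => intro p; rw [map_add, LinearMap.add_apply, hr, hs, map_add, Prod.mk_add_mk, add_mul, add_mul]
      | monomial k c =>
        intro p
        rw [aeval_monomial, ← C_mul_X_pow_eq_monomial, map_mul, map_pow, AdjoinRoot.mk_X, AdjoinRoot.mk_C,
          Module.End.mul_apply, Module.algebraMap_end_apply]
        have hk : (S ^ k) p = (t ^ k * p.1, t ^ k * p.2) := by
          induction k with
          | zero => simp
          | succ k ih => rw [pow_succ', Module.End.mul_apply, ih, hS, ← mul_assoc, ← mul_assoc, ← pow_succ']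
        rw [hk, Prod.smul_mk, ← AdjoinRoot.algebraMap_eq, mul_assoc, mul_assoc, ← Algebra.smul_def, ← Algebra.smul_def]
    have hmat : Matrix.toLin' (aeval (LinearMap.toMatrix' (e.conj am) + LinearMap.toMatrix' (e.conj am')) g) =
        e.conj (aeval S g) := by
      show Matrix.toLinAlgEquiv' (aeval (LinearMap.toMatrix' (e.conj am) + LinearMap.toMatrix' (e.conj am')) g) =
        e.conjAlgEquiv F (aeval S g)
      rw [← Polynomial.aeval_algHom_apply,
        show (Matrix.toLinAlgEquiv' (LinearMap.toMatrix' (e.conj am) + LinearMap.toMatrix' (e.conj am'))) =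
          e.conjAlgEquiv F S by
          rw [map_add]
          show Matrix.toLin' (LinearMap.toMatrix' (e.conj am)) + Matrix.toLin' (LinearMap.toMatrix' (e.conj am')) = _
          rw [Matrix.toLin'_toMatrix', Matrix.toLin'_toMatrix']
          exact (map_add e.conj am am').symm,
        Polynomial.aeval_algHom_apply]
    rw [show (A : Matrix (Fin n ⊕ Fin n) (Fin n ⊕ Fin n) F) = LinearMap.toMatrix' (e.conj am) from rfl,
      ← Matrix.toLin'.map_eq_zero_iff, hmat, e.conj.map_eq_zero_iff, ← AdjoinRoot.mk_eq_zero]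
    refine ⟨fun h => ?_, fun h => LinearMap.ext fun p => ?_⟩
    · have := congrArg Prod.fst ((hSg (1, 0)).symm.trans (LinearMap.congr_fun h (1, 0)))
      simpa using this
    · rw [hSg, h, zero_mul, zero_mul]; rfl
  · change LinearMap.toMatrix' (e.conj am) *ᵥ x = x at hx
    rw [LinearMap.toMatrix'_mulVec, LinearEquiv.conj_apply_apply] at hx
    have h1 : am (e.symm x) = e.symm x := by
      have := congrArg e.symm hx
      rwa [e.symm_apply_apply] at this
    rw [ham, Prod.ext_iff] at h1
    obtain ⟨a1, a2⟩ := h1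
    have hz : (e.symm x).2 = 0 := by
      refine (IsUnit.mul_right_eq_zero hu).1 ?_
      rw [← a1] at a2
      simpa using a2
    refine e.symm.injective ?_
    rw [map_zero]
    exact Prod.ext (by rw [← a1, hz]; rfl) hz

end Cfsg.Lib.ClassNumberOEven
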