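import Cfsg.Agent.Known.ClassNumberSpEven.Norm
import Cfsg.Agent.Known.OrthField.Classify
import Cfsg.Agent.Known.SympInvol.Forms
import Cfsg.Agent.Classical.Orth.StdForms
import Mathlib

/-! Character sums of quadratic forms in characteristic two. -/

set_option autoImplicit false
set_option linter.style.haveILetI false

open scoped Classical

namespace Cfsg.Lib.ClassNumberOEven

open Cfsg.Lib.ClassNumberSpEven (asHom asHom_index del del_spec)

universe u v w

variable {F : Type u} [Field F] [Fintype F] [CharP F 2]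

/-- The nontrivial additive character trivial on the values of `x ↦ x ^ 2 + x`. -/
noncomputable def sgn2 (c : F) : ℤ := if c ∈ (asHom F).range then 1 else -1

theorem sgn2_zero : sgn2 (0 : F) = 1 := if_pos (asHom F).range.zero_mem

theorem sgn2_cases (c : F) : sgn2 c = 1 ∨ sgn2 c = -1 := by rw [sgn2]; split_ifs <;> simp

theorem sgn2_add (x y : F) : sgn2 (x + y) = sgn2 x * sgn2 y := by
  have h := AddSubgroup.add_mem_iff_of_index_two (asHom_index (F := F)) (a := x) (b := y)
  by_cases hx : x ∈ (asHom F).range <;> by_cases hy : y ∈ (asHom F).range <;> simp [sgn2, hx, hy, h]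

theorem sgn2_sq (x : F) : sgn2 (x * x) = sgn2 x := by
  have h1 : sgn2 (x * x + x) = 1 := if_pos ⟨x, rfl⟩
  rw [sgn2_add] at h1
  rcases sgn2_cases x with h | h <;> rw [h] at h1 ⊢ <;> omega

theorem sgn2_del : sgn2 (del F) = -1 := if_neg fun ⟨x, hx⟩ => del_spec x hx

variable {V : Type v} [AddCommGroup V] [Module F V] [Fintype V]

theorem sum_linear_zero {l : V →ₗ[F] F} (hl : l ≠ 0) : ∑ x, sgn2 (l x) = 0 := by
  obtain ⟨v, hv⟩ : ∃ v, l v = del F := by
    obtain ⟨x, hx⟩ : ∃ x, l x ≠ 0 := by
      by_contra h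
      push Not at h
      exact hl (LinearMap.ext h)
    exact ⟨(del F / l x) • x, by rw [map_smul, smul_eq_mul, div_mul_cancel₀ _ hx]⟩
  have h : ∑ u, sgn2 (l u) = ∑ u, sgn2 (l (u + v)) :=
    (Fintype.sum_equiv (Equiv.addRight v) _ _ fun _ => rfl).symm
  simp only [map_add, hv, sgn2_add, sgn2_del, mul_neg_one, Finset.sum_neg_distrib] at h
  omega

/-- The character sum of a quadratic form. -/
noncomputable def gauss (Q : QuadraticForm F V) : ℤ := ∑ x, sgn2 (Q x)

theorem gauss_equiv {W : Type w} [AddCommGroup W] [Module F W] [Fintype W] (Q : QuadraticForm F V) (g : V ≃ W)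
    (f : W → F) (h : ∀ v, Q v = f (g v)) : gauss Q = ∑ x, sgn2 (f x) :=
  Fintype.sum_equiv g _ _ fun v => by rw [h]

theorem gauss_sq (Q : QuadraticForm F V) (hQ : (QuadraticMap.polarBilin Q).Nondegenerate) :
    gauss Q * gauss Q = Fintype.card V := by
  have key : ∀ x z, sgn2 (Q x) * sgn2 (Q (x + z)) = sgn2 (Q z) * sgn2 (QuadraticMap.polarBilin Q z x) := fun x z => by
    rw [QuadraticMap.map_add (⇑Q), sgn2_add, sgn2_add, QuadraticMap.polarBilin_apply_apply, QuadraticMap.polar_comm]
    rcases sgn2_cases (Q x) with h | h <;> rw [h] <;> ring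
  calc gauss Q * gauss Q = ∑ x, ∑ z, sgn2 (Q x) * sgn2 (Q (x + z)) := by
        rw [gauss, Finset.sum_mul]
        exact Finset.sum_congr rfl fun x _ => by
          rw [Finset.mul_sum]; exact (Fintype.sum_equiv (Equiv.addLeft x) _ _ fun _ => rfl).symm
    _ = ∑ z, sgn2 (Q z) * ∑ x, sgn2 (QuadraticMap.polarBilin Q z x) := by
        rw [Finset.sum_comm]; simp only [key, Finset.mul_sum]
    _ = Fintype.card V := by
        rw [Finset.sum_eq_single 0 (fun z _ hz => by
          rw [sum_linear_zero (fun h => hz (hQ.1 z fun y => LinearMap.congr_fun h y)), mul_zero]) (by simp)]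
        simp [QuadraticMap.map_zero, sgn2_zero]

theorem gauss_ne_zero (Q : QuadraticForm F V) (hQ : (QuadraticMap.polarBilin Q).Nondegenerate) : gauss Q ≠ 0 := by
  intro h
  have h1 := gauss_sq Q hQ
  rw [h, mul_zero] at h1
  exact Fintype.card_ne_zero (α := V) (by exact_mod_cast h1.symm)

/-- Forms with the same polar differ by the square of a linear functional. -/
theorem exists_diff [FiniteDimensional F V] (Q Q' : QuadraticForm F V)
    (hQ : (QuadraticMap.polarBilin Q).Nondegenerate)
    (hp : QuadraticMap.polarBilin Q' = QuadraticMap.polarBilin Q) :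
    ∃ z : V, ∀ x, Q' x = Q x + QuadraticMap.polarBilin Q x z * QuadraticMap.polarBilin Q x z := by
  choose l hl using fun x => SympInvol.sqrt_exists (Q' x + Q x)
  let L : V →ₗ[F] F :=
    { toFun := l
      map_add' := fun x y => SympInvol.sq_inj (by
        have h2 : QuadraticMap.polar (⇑Q') x y = QuadraticMap.polar (⇑Q) x y := by
          rw [← QuadraticMap.polarBilin_apply_apply, hp, QuadraticMap.polarBilin_apply_apply]
        rw [CharTwo.add_mul_self, hl, hl, hl, QuadraticMap.map_add (⇑Q'), QuadraticMap.map_add (⇑Q), h2]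
        linear_combination QuadraticMap.polar (⇑Q) x y * (CharTwo.two_eq_zero : (2 : F) = 0))
      map_smul' := fun c x => SympInvol.sq_inj (by
        rw [hl, QuadraticMap.map_smul, QuadraticMap.map_smul, RingHom.id_apply, smul_eq_mul, smul_eq_mul,
          smul_eq_mul, show c * l x * (c * l x) = c * c * (l x * l x) by ring, hl]
        ring) }
  refine ⟨(LinearMap.BilinForm.toDual _ hQ).symm L, fun x => ?_⟩
  rw [QuadraticMap.polarBilin_apply_apply, QuadraticMap.polar_comm, ← QuadraticMap.polarBilin_apply_apply,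
    LinearMap.BilinForm.apply_toDual_symm_apply (hB := hQ)]
  show Q' x = Q x + l x * l x
  rw [hl, add_left_comm, CharTwo.add_self_eq_zero, add_zero]

theorem gauss_shift (Q Q' : QuadraticForm F V) (z : V)
    (h : ∀ x, Q' x = Q x + QuadraticMap.polarBilin Q x z * QuadraticMap.polarBilin Q x z) :
    gauss Q' = sgn2 (Q z) * gauss Q := by
  rw [gauss, gauss, Finset.mul_sum]
  refine Fintype.sum_equiv (Equiv.addRight z) _ _ fun x => ?_
  show sgn2 (Q' x) = sgn2 (Q z) * sgn2 (Q (x + z))
  rw [h, sgn2_add, sgn2_sq, QuadraticMap.map_add (⇑Q), sgn2_add, sgn2_add, QuadraticMap.polarBilin_apply_apply]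
  rcases sgn2_cases (Q z) with h | h <;> rw [h] <;> ring

/-- Invariant forms with the same polar and the same sign are conjugate under the centraliser. -/
theorem exists_centralizing [FiniteDimensional F V] (Q Q' : QuadraticForm F V)
    (hQ : (QuadraticMap.polarBilin Q).Nondegenerate)
    (hp : QuadraticMap.polarBilin Q' = QuadraticMap.polarBilin Q) (a : Module.End F V)
    (ha : ∀ x, Q (a x) = Q x) (ha' : ∀ x, Q' (a x) = Q' x) (hG : gauss Q' = gauss Q) :
    ∃ g : V ≃ₗ[F] V, (∀ x, g (a x) = a (g x)) ∧ ∀ x, Q (g x) = Q' x := by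
  obtain ⟨z, hz⟩ := exists_diff Q Q' hQ hp
  set β : LinearMap.BilinForm F V := QuadraticMap.polarBilin Q with hβ
  have haB : ∀ x y, β (a x) (a y) = β x y := fun x y => by
    simp only [hβ, QuadraticMap.polarBilin_apply_apply, QuadraticMap.polar, ← map_add, ha]
  have hinj : Function.Injective a := (injective_iff_map_eq_zero a).2 fun u hu => hQ.1 u fun w => by
    rw [← haB, hu, map_zero, LinearMap.zero_apply]
  have hsurj : Function.Surjective a := Finite.injective_iff_surjective.1 hinj
  have hzx : ∀ x, β (a x) z = β x z := fun x => SympInvol.sq_inj (by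
    have h1 := hz (a x)
    rw [ha', ha, hz x] at h1
    exact (add_left_cancel h1).symm)
  have hzfix : a z = z := by
    refine sub_eq_zero.1 (hQ.2 _ fun y => ?_)
    obtain ⟨x, rfl⟩ := hsurj y
    show β (a x) (a z - z) = 0
    rw [map_sub, haB, hzx, sub_self]
  have hsym : ∀ x y, β x y = β y x := fun x y => QuadraticMap.polar_comm (⇑Q) x y
  have hzz : β z z = 0 := by
    show QuadraticMap.polar (⇑Q) z z = 0
    rw [QuadraticMap.polar_self, two_nsmul, CharTwo.add_self_eq_zero]
  obtain ⟨c, hc⟩ : ∃ c : F, c * c * Q z + c = 1 := by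
    by_cases h0 : Q z = 0
    · exact ⟨1, by rw [h0, mul_zero, zero_add]⟩
    have hs := gauss_shift Q Q' z hz
    rw [hG] at hs
    have h1 : sgn2 (Q z) = 1 := mul_right_cancel₀ (gauss_ne_zero Q hQ) (by rw [one_mul]; exact hs.symm)
    obtain ⟨r, hr⟩ : Q z ∈ (asHom F).range := by
      by_contra hn
      rw [sgn2, if_neg hn] at h1
      norm_num at h1
    change r * r + r = Q z at hr
    refine ⟨r / Q z, ?_⟩
    field_simp
    linear_combination hr
  let T : V →ₗ[F] V := LinearMap.id + (c • β.flip z).smulRight z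
  have hT : ∀ x, T x = x + (c * β x z) • z := fun x => rfl
  have hTT : T.comp T = LinearMap.id := LinearMap.ext fun x => by
    rw [LinearMap.comp_apply, hT, hT, map_add, map_smul, LinearMap.add_apply, LinearMap.smul_apply, hzz, smul_zero,
      add_zero, LinearMap.id_apply, add_assoc, ← add_smul, CharTwo.add_self_eq_zero, zero_smul, add_zero]
  refine ⟨LinearEquiv.ofLinear T T hTT hTT, fun x => ?_, fun x => ?_⟩
  · show T (a x) = a (T x)
    rw [hT, hT, map_add, map_smul, hzfix, hzx]
  · show Q (T x) = Q' x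
    rw [hT, QuadraticMap.map_add (⇑Q), QuadraticMap.map_smul, hz, ← QuadraticMap.polarBilin_apply_apply, map_smul,
      smul_eq_mul, smul_eq_mul]
    linear_combination (β x z * β x z) * hc

section Standard

theorem gauss_plus (n : ℕ) : ∑ x : Fin n ⊕ Fin n → F, sgn2 (Cfsg.quadFormPlus n F x) = (Fintype.card F : ℤ) ^ n := by
  let e : (Fin n → F × F) ≃ (Fin n ⊕ Fin n → F) :=
    (Equiv.arrowProdEquivProdArrow _ (fun _ => F) (fun _ => F)).trans (Equiv.sumArrowEquivProdArrow _ _ _).symm
  rw [← Equiv.sum_comp e]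
  have hprod : ∀ (s : Finset (Fin n)) (g : Fin n → F), sgn2 (∑ i ∈ s, g i) = ∏ i ∈ s, sgn2 (g i) := by
    intro s g
    induction s using Finset.induction_on with
    | empty => exact sgn2_zero
    | insert i s hi ih => rw [Finset.sum_insert hi, Finset.prod_insert hi, sgn2_add, ih]
  have h : ∀ x : Fin n → F × F, sgn2 (Cfsg.quadFormPlus n F (e x)) = ∏ i, sgn2 ((x i).1 * (x i).2) :=
    fun x => hprod _ fun i => (x i).1 * (x i).2
  have hplane : ∑ p : F × F, sgn2 (p.1 * p.2) = (Fintype.card F : ℤ) := by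
    rw [Fintype.sum_prod_type, Finset.sum_eq_single (0 : F)]
    · simp [sgn2_zero]
    · intro x _ hx
      exact sum_linear_zero (l := LinearMap.mulLeft F x) fun h => hx (by simpa using LinearMap.congr_fun h 1)
    · simp
  rw [Finset.sum_congr rfl fun x _ => h x, ← Fintype.prod_sum (fun _ (p : F × F) => sgn2 (p.1 * p.2)),
    Finset.prod_const, Finset.card_univ, Fintype.card_fin, hplane]

theorem gauss_plane {a b : F}
    (hab : ∀ z₁ z₂ : F, z₁ ^ 2 + a * z₁ * z₂ + b * z₂ ^ 2 = 0 → z₁ = 0 ∧ z₂ = 0) :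
    ∑ p : F × F, sgn2 (p.1 ^ 2 + a * p.1 * p.2 + b * p.2 ^ 2) = -(Fintype.card F : ℤ) := by
  set f : F × F → F := fun p => p.1 ^ 2 + a * p.1 * p.2 + b * p.2 ^ 2 with hf
  set M : ℤ := ((((Finset.univ : Finset (F × F)).filter fun p => f p = 1).card : ℕ) : ℤ) with hM
  have hfib : ∀ c : F, c ≠ 0 → ((((Finset.univ : Finset (F × F)).filter fun p => f p = c).card : ℕ) : ℤ) = M := by
    intro c hc
    obtain ⟨r, hr⟩ := SympInvol.sqrt_exists c
    have hr0 : r ≠ 0 := fun h => hc (by rw [← hr, h, mul_zero])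
    rw [hM, Nat.cast_inj]
    refine Finset.card_bij' (fun p _ => r⁻¹ • p) (fun p _ => r • p) (fun p hp => ?_) (fun p hp => ?_)
      (fun p _ => smul_inv_smul₀ hr0 p) fun p _ => inv_smul_smul₀ hr0 p
    · simp only [Finset.mem_filter, Finset.mem_univ, true_and, hf, Prod.smul_fst, Prod.smul_snd, smul_eq_mul] at hp ⊢
      field_simp
      linear_combination hp - hr
    · simp only [Finset.mem_filter, Finset.mem_univ, true_and, hf, Prod.smul_fst, Prod.smul_snd, smul_eq_mul] at hp ⊢
      linear_combination r * r * hp + hr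
  have h0 : (Finset.univ : Finset (F × F)).filter (fun p => f p = 0) = {0} := by
    ext p
    simp only [Finset.mem_filter, Finset.mem_univ, true_and, Finset.mem_singleton, hf]
    exact ⟨fun h => Prod.ext (hab p.1 p.2 h).1 (hab p.1 p.2 h).2, fun h => by simp [h]⟩
  have htot : ((Fintype.card F : ℤ) - 1) * M + 1 = (Fintype.card F : ℤ) ^ 2 := by
    have h := Finset.card_eq_sum_card_fiberwise (s := (Finset.univ : Finset (F × F))) (t := (Finset.univ : Finset F))
      (f := f) fun _ _ => Finset.mem_univ _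
    rw [Finset.card_univ, Fintype.card_prod, ← Finset.add_sum_erase _ _ (Finset.mem_univ (0 : F)), h0,
      Finset.card_singleton] at h
    have h' := congrArg (fun m : ℕ => (m : ℤ)) h
    push_cast at h'
    rw [Finset.sum_congr rfl fun c hc => hfib c (Finset.ne_of_mem_erase hc), Finset.sum_const, nsmul_eq_mul,
      Finset.card_erase_of_mem (Finset.mem_univ _), Finset.card_univ, Nat.cast_sub Fintype.card_pos] at h'
    push_cast at h'
    linear_combination -h'
  have hsum : ∑ p, sgn2 (f p) = 1 + M * ∑ c ∈ Finset.univ.erase (0 : F), sgn2 c := by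
    rw [← Finset.sum_fiberwise_of_maps_to (s := (Finset.univ : Finset (F × F))) (t := (Finset.univ : Finset F))
      (g := f) (fun _ _ => Finset.mem_univ _), ← Finset.add_sum_erase _ _ (Finset.mem_univ (0 : F)), h0,
      Finset.sum_singleton, Finset.mul_sum]
    congr 1
    · simp [hf, sgn2_zero]
    · refine Finset.sum_congr rfl fun c hc => ?_
      rw [Finset.sum_congr rfl (fun p hp => by rw [(Finset.mem_filter.1 hp).2]), Finset.sum_const, nsmul_eq_mul,
        hfib c (Finset.ne_of_mem_erase hc)]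
  have hchar : ∑ c ∈ Finset.univ.erase (0 : F), sgn2 c = -1 := by
    have h := sum_linear_zero (l := (LinearMap.id : F →ₗ[F] F))
      fun h => one_ne_zero (α := F) (by simpa using LinearMap.congr_fun h 1)
    simp only [LinearMap.id_apply] at h
    rw [← Finset.add_sum_erase _ _ (Finset.mem_univ (0 : F)), sgn2_zero] at h
    omega
  rw [show (∑ p : F × F, sgn2 (p.1 ^ 2 + a * p.1 * p.2 + b * p.2 ^ 2)) = ∑ p, sgn2 (f p) from rfl, hsum, hchar]
  have hq : (2 : ℤ) ≤ Fintype.card F := by exact_mod_cast Fintype.one_lt_card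
  have hMv : M = Fintype.card F + 1 :=
    mul_left_cancel₀ (show ((Fintype.card F : ℤ) - 1) ≠ 0 by omega) (by linear_combination htot)
  rw [hMv]; ring

theorem gauss_minus (k : ℕ) {a b : F}
    (hab : ∀ z₁ z₂ : F, z₁ ^ 2 + a * z₁ * z₂ + b * z₂ ^ 2 = 0 → z₁ = 0 ∧ z₂ = 0) :
    ∑ x : (Fin k ⊕ Fin k) ⊕ Fin 2 → F, sgn2 (Cfsg.quadFormMinus k F a b x) = -(Fintype.card F : ℤ) ^ (k + 1) := by
  let e : (Fin k ⊕ Fin k → F) × (F × F) ≃ ((Fin k ⊕ Fin k) ⊕ Fin 2 → F) :=
    ((Equiv.refl _).prodCongr (piFinTwoEquiv fun _ => F).symm).trans (Equiv.sumArrowEquivProdArrow _ _ _).symm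
  rw [← Equiv.sum_comp e]
  have h : ∀ p : (Fin k ⊕ Fin k → F) × (F × F), sgn2 (Cfsg.quadFormMinus k F a b (e p)) =
      sgn2 (Cfsg.quadFormPlus k F p.1) * sgn2 (p.2.1 ^ 2 + a * p.2.1 * p.2.2 + b * p.2.2 ^ 2) :=
    fun p => sgn2_add _ _
  rw [Finset.sum_congr rfl fun p _ => h p, Fintype.sum_prod_type]
  simp only [← Finset.mul_sum]
  rw [← Finset.sum_mul, gauss_plus, gauss_plane hab]
  ring

end Standard

/-- Nondegenerate forms of the same dimension and sign are equivalent. -/
theorem exists_equiv_of_gauss {W : Type w} [AddCommGroup W] [Module F W] [Fintype W] [FiniteDimensional F V]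
    [FiniteDimensional F W] (Q : QuadraticForm F V) (R : QuadraticForm F W)
    (hQ : (QuadraticMap.polarBilin Q).Nondegenerate) (hR : (QuadraticMap.polarBilin R).Nondegenerate) {n : ℕ}
    (hV : Module.finrank F V = 2 * n) (hW : Module.finrank F W = 2 * n) (hG : gauss Q = gauss R) :
    ∃ g : V ≃ₗ[F] W, ∀ v, R (g v) = Q v := by
  obtain ⟨ζ, hζ⟩ := OrthField.exists_zeta (F := F)
  have hpos : (0 : ℤ) < (Fintype.card F : ℤ) ^ n := by positivity
  rcases OrthField.even_cases hQ hV with ⟨g, hg⟩ | ⟨k, hk, h⟩ <;>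
    rcases OrthField.even_cases hR hW with ⟨g', hg'⟩ | ⟨k', hk', h'⟩
  · exact ⟨g.trans g'.symm, fun v => by rw [hg', hg]; simp⟩
  · exfalso
    obtain ⟨g', hg'⟩ := h' ζ hζ
    subst hk'
    rw [gauss_equiv Q g.toEquiv _ hg, gauss_equiv R g'.toEquiv _ hg', gauss_plus,
      gauss_minus k' (OrthField.aniso_zeta hζ)] at hG
    omega
  · exfalso
    obtain ⟨g, hg⟩ := h ζ hζ
    subst hk
    rw [gauss_equiv Q g.toEquiv _ hg, gauss_equiv R g'.toEquiv _ hg', gauss_plus,
      gauss_minus k (OrthField.aniso_zeta hζ)] at hG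
    omega
  · obtain ⟨g, hg⟩ := h ζ hζ
    obtain rfl : k' = k := by omega
    obtain ⟨g', hg'⟩ := h' ζ hζ
    exact ⟨g.trans g'.symm, fun v => by rw [hg', hg]; simp⟩

end Cfsg.Lib.ClassNumberOEven
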