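import Cfsg.Agent.Known.ClassNumberOEven.Model
import Mathlib

/-! The signs of the models and the number of polynomials of each sign. -/

set_option autoImplicit false
set_option linter.style.haveILetI false

open Polynomial Matrix Cfsg.Lib.Classical
open scoped Classical

namespace Cfsg.Lib.ClassNumberOEven

open Cfsg.Lib.ClassNumberSpEven (asHom asHom_index del)

universe u

variable {F : Type u} [Field F] [Fintype F] [CharP F 2]

/-- The twisting element of a polynomial with nonzero constant term, and its sign. -/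
theorem exists_v_unit {f : F[X]} (hf : f.Monic) (hn : 1 ≤ f.natDegree) (h0 : f.coeff 0 ≠ 0) :
    ∃ v : AdjoinRoot f,
      (∀ y, topF hf (AdjoinRoot.root f * y * v) = topF hf (y * AdjoinRoot.mk f (rootDer f))) ∧
      topF hf (v * v) = f.coeff 1 / f.coeff 0 ∧ IsUnit (AdjoinRoot.root f) := by
  set P : F[X] := f.divX * C (f.coeff 0)⁻¹ with hP
  have htP : AdjoinRoot.root f * AdjoinRoot.mk f P = 1 := by
    rw [← AdjoinRoot.mk_X, ← map_mul, ← map_one (AdjoinRoot.mk f), AdjoinRoot.mk_eq_mk]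
    refine ⟨C (f.coeff 0)⁻¹, ?_⟩
    have hsplit := X_mul_divX_add f
    have hinv : C (f.coeff 0) * C (f.coeff 0)⁻¹ = (1 : F[X]) := by rw [← map_mul, mul_inv_cancel₀ h0, map_one]
    rw [hP]
    conv_rhs => arg 1; rw [← hsplit]
    linear_combination -hinv - (CharTwo.two_eq_zero : (2 : F[X]) = 0)
  refine ⟨AdjoinRoot.mk f (rootDer f) * AdjoinRoot.mk f P, fun y => ?_, ?_, IsUnit.of_mul_eq_one _ htP⟩
  · congr 1
    linear_combination (y * AdjoinRoot.mk f (rootDer f)) * htP
  · have hsq : AdjoinRoot.mk f (rootDer f) * AdjoinRoot.mk f (rootDer f) =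
        AdjoinRoot.root f * AdjoinRoot.mk f (derivative f) := by
      rw [← map_mul, rootDer_sq, derivative_mul, derivative_X, one_mul, map_add, AdjoinRoot.mk_self, zero_add,
        map_mul, AdjoinRoot.mk_X]
    have hvv : AdjoinRoot.mk f (rootDer f) * AdjoinRoot.mk f P * (AdjoinRoot.mk f (rootDer f) * AdjoinRoot.mk f P) =
        AdjoinRoot.mk f (derivative f) * AdjoinRoot.mk f P := by
      linear_combination (AdjoinRoot.mk f P * AdjoinRoot.mk f P) * hsq +
        (AdjoinRoot.mk f (derivative f) * AdjoinRoot.mk f P) * htP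
    rw [hvv]
    have hd : derivative f = C (f.coeff 1) + X * (derivative f).divX := by
      conv_lhs => rw [← X_mul_divX_add (derivative f)]
      simp only [coeff_derivative, Nat.cast_zero, zero_add, mul_one]
      exact add_comm _ _
    have h1 : AdjoinRoot.mk f (derivative f) * AdjoinRoot.mk f P =
        f.coeff 1 • AdjoinRoot.mk f P + AdjoinRoot.mk f (derivative f).divX := by
      conv_lhs => rw [hd]
      rw [map_add, map_mul, AdjoinRoot.mk_X, AdjoinRoot.mk_C, add_mul, Algebra.smul_def, ← AdjoinRoot.algebraMap_eq]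
      linear_combination AdjoinRoot.mk f (derivative f).divX * htP
    have hdeg1 : P.natDegree < f.natDegree := by
      rw [hP]
      refine lt_of_le_of_lt (natDegree_mul_C_le _ _) ?_
      rw [natDegree_divX_eq_natDegree_tsub_one]; omega
    have hdeg2 : ((derivative f).divX).natDegree < f.natDegree := by
      rw [natDegree_divX_eq_natDegree_tsub_one]
      have := natDegree_derivative_le f
      omega
    rw [h1, map_add, map_smul, smul_eq_mul, topF_mk_low hf hn hdeg1, topF_mk_low hf hn hdeg2, hP, coeff_mul_C,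
      coeff_divX, coeff_divX, coeff_derivative, Nat.sub_add_cancel hn, hf.coeff_natDegree, one_mul,
      coeff_eq_zero_of_natDegree_lt (Nat.lt_succ_self _), zero_mul, add_zero, div_eq_mul_inv]

/-- For a simple root at zero both signs occur. -/
theorem exists_v_zero {f : F[X]} (hf : f.Monic) (hn : 1 ≤ f.natDegree) (h0 : f.coeff 0 = 0) (h1 : f.coeff 1 ≠ 0)
    {ε : ℤ} (hε : ε = 1 ∨ ε = -1) :
    ∃ v : AdjoinRoot f,
      (∀ y, topF hf (AdjoinRoot.root f * y * v) = topF hf (y * AdjoinRoot.mk f (rootDer f))) ∧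
      sgn2 (topF hf (v * v)) = ε := by
  have hw0 : (rootDer f).coeff 0 = 0 := by
    have h2 : rootCoeff f 0 = 0 := mul_self_eq_zero.1 (by rw [rootCoeff_sq, mul_zero, h0])
    rw [rootDer, finset_sum_coeff]
    refine Finset.sum_eq_zero fun j _ => ?_
    rcases Nat.eq_zero_or_pos j with rfl | hj
    · simp [h2]
    · rw [coeff_C_mul_X_pow, if_neg (by omega)]
  have hw : rootDer f = X * (rootDer f).divX := by
    conv_lhs => rw [← X_mul_divX_add (rootDer f), hw0, map_zero, add_zero]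
  have hX : f = X * f.divX := by
    conv_lhs => rw [← X_mul_divX_add f, h0, map_zero, add_zero]
  have hth : AdjoinRoot.root f * AdjoinRoot.mk f f.divX = 0 := by
    rw [← AdjoinRoot.mk_X, ← map_mul, ← hX, AdjoinRoot.mk_self]
  have hh : topF hf (AdjoinRoot.mk f f.divX * AdjoinRoot.mk f f.divX) = f.coeff 1 := by
    have e : AdjoinRoot.mk f f.divX * AdjoinRoot.mk f f.divX = f.coeff 1 • AdjoinRoot.mk f f.divX := by
      nth_rw 1 [← X_mul_divX_add f.divX]
      rw [map_add, map_mul, AdjoinRoot.mk_X, AdjoinRoot.mk_C, coeff_divX, Algebra.smul_def,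
        ← AdjoinRoot.algebraMap_eq]
      linear_combination AdjoinRoot.mk f f.divX.divX * hth
    rw [e, map_smul, smul_eq_mul, topF_mk_low hf hn (by rw [natDegree_divX_eq_natDegree_tsub_one]; omega),
      coeff_divX, Nat.sub_add_cancel hn, hf.coeff_natDegree, mul_one]
  set u0 := AdjoinRoot.mk f (rootDer f).divX with hu0
  obtain ⟨κ, hκ⟩ : ∃ κ : F, sgn2 (topF hf (u0 * u0) + κ) = ε := by
    by_cases h : sgn2 (topF hf (u0 * u0)) = ε
    · exact ⟨0, by rw [add_zero, h]⟩
    · refine ⟨del F, ?_⟩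
      rw [sgn2_add, sgn2_del]
      rcases sgn2_cases (topF hf (u0 * u0)) with e | e <;> rw [e] at h ⊢ <;> omega
  obtain ⟨c, hc⟩ := SympInvol.sqrt_exists (κ / f.coeff 1)
  refine ⟨u0 + c • AdjoinRoot.mk f f.divX, fun y => ?_, ?_⟩
  · congr 1
    rw [mul_add, mul_smul_comm, show AdjoinRoot.root f * y * AdjoinRoot.mk f f.divX = 0 by
      rw [mul_comm (AdjoinRoot.root f) y, mul_assoc, hth, mul_zero], smul_zero, add_zero]
    conv_rhs => rw [hw, map_mul, AdjoinRoot.mk_X]
    ring
  · rw [show (u0 + c • AdjoinRoot.mk f f.divX) * (u0 + c • AdjoinRoot.mk f f.divX) =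
        u0 * u0 + c • AdjoinRoot.mk f f.divX * c • AdjoinRoot.mk f f.divX by
      linear_combination ClassNumberSpEven.vadd_self F (u0 * c • AdjoinRoot.mk f f.divX), map_add, smul_mul_assoc, mul_smul_comm, smul_smul, map_smul, smul_eq_mul, hc, hh,
      div_mul_cancel₀ _ h1]
    exact hκ

/-- The monic polynomial with given lower coefficients. -/
noncomputable def mkPoly {n : ℕ} (a : Fin n → F) : F[X] := X ^ n + ∑ i : Fin n, C (a i) * X ^ (i : ℕ)

omit [Fintype F] [CharP F 2] in
theorem mkPoly_coeff {n : ℕ} (a : Fin n → F) (i : Fin n) : (mkPoly a).coeff (i : ℕ) = a i := by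
  rw [mkPoly, coeff_add, coeff_X_pow, if_neg (by omega), zero_add, finset_sum_coeff, Finset.sum_eq_single i]
  · rw [coeff_C_mul_X_pow, if_pos rfl]
  · intro j _ hj
    rw [coeff_C_mul_X_pow, if_neg fun h => hj (Fin.ext h.symm)]
  · simp

omit [Fintype F] [CharP F 2] in
theorem mkPoly_props {n : ℕ} (a : Fin n → F) : (mkPoly a).Monic ∧ (mkPoly a).natDegree = n := by
  have hlt : (∑ i : Fin n, C (a i) * X ^ (i : ℕ)).degree < (n : WithBot ℕ) := by
    refine lt_of_le_of_lt (degree_sum_le _ _) ((Finset.sup_lt_iff (WithBot.bot_lt_coe _)).2 fun i _ => ?_)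
    exact lt_of_le_of_lt (degree_C_mul_X_pow_le _ _) (by exact_mod_cast i.isLt)
  refine ⟨monic_X_pow_add hlt, natDegree_eq_of_degree_eq_some ?_⟩
  rw [mkPoly, degree_add_eq_left_of_degree_lt (by rw [degree_X_pow]; exact hlt), degree_X_pow]

variable {m : ℕ}

/-- The coefficient vectors realised with sign `ε`. -/
def Good (ε : ℤ) (a : Fin (m + 2) → F) : Prop :=
  (a 0 ≠ 0 ∧ sgn2 (a 1 / a 0) = ε) ∨ (a 0 = 0 ∧ a 1 ≠ 0)

/-- The coefficient vectors realised only with the opposite sign. -/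
def Bad (ε : ℤ) (a : Fin (m + 2) → F) : Prop := a 0 ≠ 0 ∧ sgn2 (a 1 / a 0) = -ε

theorem count_sign {ε : ℤ} (hε : ε = 1 ∨ ε = -1) : 2 * Nat.card {x : F // sgn2 x = ε} = Fintype.card F := by
  have h1 : ∀ x : F, sgn2 (x + del F) = - sgn2 x := fun x => by rw [sgn2_add, sgn2_del, mul_neg_one]
  let e : {x : F // sgn2 x = ε} ≃ {x : F // ¬ sgn2 x = ε} :=
    { toFun := fun x => ⟨x.1 + del F, by rw [h1, x.2]; rcases hε with rfl | rfl <;> simp⟩
      invFun := fun x => ⟨x.1 + del F, by
        rw [h1]; rcases sgn2_cases x.1 with h | h <;> rcases hε with rfl | rfl <;> simp_all [x.2]⟩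
      left_inv := fun x => Subtype.ext (by show x.1 + del F + del F = x.1; rw [add_assoc, CharTwo.add_self_eq_zero, add_zero])
      right_inv := fun x => Subtype.ext (by show x.1 + del F + del F = x.1; rw [add_assoc, CharTwo.add_self_eq_zero, add_zero]) }
  rw [two_mul]
  nth_rw 2 [Nat.card_congr e]
  rw [Nat.card_eq_fintype_card, Nat.card_eq_fintype_card, Fintype.card_subtype_compl,
    Nat.add_sub_cancel' (Fintype.card_subtype_le _)]

theorem card_pairs (P : F → F → Prop) :
    Nat.card {a : Fin (m + 2) → F // P (a 0) (a 1)} = (∑ x : F, Nat.card {y : F // P x y}) * Fintype.card F ^ m := by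
  let e : {a : Fin (m + 2) → F // P (a 0) (a 1)} ≃ {p : F × F // P p.1 p.2} × (Fin m → F) :=
    { toFun := fun a => (⟨(a.1 0, a.1 1), a.2⟩, fun i => a.1 i.succ.succ)
      invFun := fun p => ⟨Fin.cons p.1.1.1 (Fin.cons p.1.1.2 p.2), p.1.2⟩
      left_inv := fun a => Subtype.ext (funext fun i => by
        refine Fin.cases ?_ (fun i => ?_) i
        · rfl
        · refine Fin.cases ?_ (fun i => ?_) i <;> rfl)
      right_inv := fun p => rfl }
  rw [Nat.card_congr e, Nat.card_prod, Nat.card_eq_fintype_card (α := Fin m → F), Fintype.card_fun, Fintype.card_fin,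
    Nat.card_congr (Equiv.subtypeProdEquivSigmaSubtype P), Nat.card_sigma]

theorem card_ratio {ε : ℤ} (hε : ε = 1 ∨ ε = -1) {x : F} (hx : x ≠ 0) :
    2 * Nat.card {y : F // sgn2 (y / x) = ε} = Fintype.card F := by
  rw [← count_sign hε]
  congr 1
  exact Nat.card_congr ((Equiv.divRight₀ x hx).subtypeEquiv fun y => Iff.rfl)

theorem card_good {ε : ℤ} (hε : ε = 1 ∨ ε = -1) :
    Fintype.card F ^ (m + 2) ≤ 2 * Nat.card {a : Fin (m + 2) → F // Good ε a} := by
  rw [show {a : Fin (m + 2) → F // Good ε a} =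
    {a : Fin (m + 2) → F // (fun x y => (x ≠ 0 ∧ sgn2 (y / x) = ε) ∨ (x = 0 ∧ y ≠ 0)) (a 0) (a 1)} from rfl,
    card_pairs (fun x y => (x ≠ 0 ∧ sgn2 (y / x) = ε) ∨ (x = 0 ∧ y ≠ 0)), ← mul_assoc, Finset.mul_sum,
    ← Finset.add_sum_erase _ _ (Finset.mem_univ (0 : F)), pow_add _ m, mul_comm (_ ^ m)]
  refine Nat.mul_le_mul_right _ ?_
  have h0 : Nat.card {y : F // ((0 : F) ≠ 0 ∧ sgn2 (y / 0) = ε) ∨ ((0 : F) = 0 ∧ y ≠ 0)} = Fintype.card F - 1 := by
    rw [Nat.card_congr (Equiv.subtypeEquivRight (q := fun y : F => y ≠ 0) fun y => by simp), Nat.card_eq_fintype_card]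
    simp
  rw [h0, Finset.sum_congr rfl fun x hx => by
    rw [Nat.card_congr (Equiv.subtypeEquivRight (q := fun y : F => sgn2 (y / x) = ε) fun y => by
      simp [Finset.ne_of_mem_erase hx]), card_ratio hε (Finset.ne_of_mem_erase hx)]]
  rw [Finset.sum_const, Finset.card_erase_of_mem (Finset.mem_univ _), Finset.card_univ, smul_eq_mul]
  obtain ⟨r, hr⟩ : ∃ r, Fintype.card F = r + 2 := ⟨_, (Nat.sub_add_cancel Fintype.one_lt_card).symm⟩
  rw [hr, show r + 2 - 1 = r + 1 by omega]
  nlinarith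

theorem card_bad {ε : ℤ} (hε : ε = 1 ∨ ε = -1) :
    Fintype.card F ^ (m + 2) ≤ 4 * Nat.card {a : Fin (m + 2) → F // Bad ε a} := by
  rw [show {a : Fin (m + 2) → F // Bad ε a} =
    {a : Fin (m + 2) → F // (fun x y => x ≠ 0 ∧ sgn2 (y / x) = -ε) (a 0) (a 1)} from rfl,
    card_pairs (fun x y => x ≠ 0 ∧ sgn2 (y / x) = -ε), ← mul_assoc, Finset.mul_sum,
    ← Finset.add_sum_erase _ _ (Finset.mem_univ (0 : F)), pow_add _ m, mul_comm (_ ^ m)]
  refine Nat.mul_le_mul_right _ ?_
  have hε' : -ε = 1 ∨ -ε = -1 := by omega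
  rw [Nat.card_congr (Equiv.subtypeEquivRight (q := fun _ : F => False) fun y => by simp), Nat.card_of_isEmpty,
    mul_zero, zero_add, Finset.sum_congr rfl fun x hx => by
      rw [Nat.card_congr (Equiv.subtypeEquivRight (q := fun y : F => sgn2 (y / x) = -ε) fun y => by
        simp [Finset.ne_of_mem_erase hx]), show (4 : ℕ) = 2 * 2 from rfl, mul_assoc,
        card_ratio hε' (Finset.ne_of_mem_erase hx)]]
  rw [Finset.sum_const, Finset.card_erase_of_mem (Finset.mem_univ _), Finset.card_univ, smul_eq_mul]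
  obtain ⟨r, hr⟩ : ∃ r, Fintype.card F = r + 2 := ⟨_, (Nat.sub_add_cancel Fintype.one_lt_card).symm⟩
  rw [hr, show r + 2 - 1 = r + 1 by omega]
  nlinarith

end Cfsg.Lib.ClassNumberOEven
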